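import Groth.Agent.S7680
import Groth.Agent.Amp73.Tensor
import Groth.Agent.Amp73.Ample
import Groth.Agent.CD47.NegPow
import Groth.Agent.Div89.RefIso
import Groth.Agent.An92.Ample.Inverse
import Groth.Agent.CrvFF30.MV
import Groth.Agent.RB70.RegSectEuler
import Groth.Agent.EGA4Alg4.Depth
import Groth.Agent.Crv77.Const
import Groth.Agent.ValVan29.Vanish
import Mathlib.AlgebraicGeometry.Morphisms.Proper

/-! An ample divisor on a connected proper scheme of depth at least two is connected. -/

set_option autoImplicit false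
set_option maxSynthPendingDepth 6
set_option linter.style.haveILetI false
set_option backward.isDefEq.respectTransparency.types false

universe u

noncomputable section

open CategoryTheory CategoryTheory.Limits AlgebraicGeometry TopologicalSpace Opposite

namespace Groth.Agent.Conn75

open Amp73 Var76.LineBundle Var76.ZeroScheme

variable {X : Scheme.{u}}

/-! ### Pairing with a section of an inverse -/

section Pair

variable {N N' : X.Modules} (ι : CohB1.tensorMod N N' ≅ Coh.structureModule X)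
  (t : Coh.structureModule X ⟶ N')

/-- Multiplication with a section of the inverse module. -/
def pairSec {U : X.Opens} (a : Γ(N, U)) : Γ(X, U) := ι.hom.app U (tm N N' a (val N' t U))

theorem pairSec_sub {U : X.Opens} (a b : Γ(N, U)) : pairSec ι t (a - b) = pairSec ι t a - pairSec ι t b := by
  unfold pairSec
  rw [tm_sub_left]
  exact map_sub _ _ _

theorem pairSec_smul {U : X.Opens} (c : Γ(X, U)) (a : Γ(N, U)) : pairSec ι t (c • a) = c * pairSec ι t a := by
  unfold pairSec
  rw [tm_smul_left, Scheme.Modules.Hom.app_smul]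
  rfl

theorem fres_pairSec {U V : X.Opens} (h : V ≤ U) (a : Γ(N, U)) :
    fres h (pairSec ι t a) = pairSec ι t (res N h a) := by
  show res (Coh.structureModule X) h (ι.hom.app U _) = _
  rw [← Mero90.app_res, res_tm, res_val]
  rfl

variable (hN : PicF.IsInvertible N)

include hN in
theorem pairSec_bijective {U : X.Opens} (hU : U ≤ CohB1.genLocus N' t) :
    Function.Bijective (fun a : Γ(N, U) => pairSec ι t a) := by
  have key : ∀ x : U, ∃ (W : X.Opens), x.1 ∈ W ∧ W ≤ U ∧ ∀ V, V ≤ W →
      Function.Bijective (fun a : Γ(N, V) => pairSec ι t a) := fun x => by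
    obtain ⟨W, hxW, hWU, e, he⟩ := Mero90.exists_affine_frame hN x.1 U x.2
    refine ⟨W.1, hxW, hWU, fun V hV => ?_⟩
    have hb : Function.Bijective
        (fun c : Γ(X, V) => c • tm N N' (res N hV e) (val N' t V)) := by
      have := (isFrame_tm (he.res hV) ((isFrame_iff_le_genLocus t V).2 ((hV.trans hWU).trans hU))) V le_rfl
      simpa only [res_self] using this
    have hi : Function.Bijective (ι.hom.app V) := ConcreteCategory.bijective_of_isIso _
    refine (Function.Bijective.of_comp_iff (fun a : Γ(N, V) => pairSec ι t a) (he V hV)).1 ?_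
    refine (congrArg Function.Bijective (funext fun c => ?_)).mpr (hi.comp hb)
    show ι.hom.app V (tm N N' (c • res N hV e) (val N' t V)) = _
    rw [tm_smul_left]
    rfl
  choose W hxW hWU hbij using key
  constructor
  · intro a b hab
    refine eq_of_locally N _ _ fun x hx => ⟨W ⟨x, hx⟩, hWU _, hxW _, (hbij _ _ le_rfl).1 ?_⟩
    dsimp only at hab ⊢
    rw [← fres_pairSec, ← fres_pairSec, hab]
  · intro z
    choose a ha using fun x : U => (hbij x (W x) le_rfl).2 (fres (hWU x) z)
    have hc : ∀ x y : U, res N (inf_le_left : W x ⊓ W y ≤ W x) (a x) =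
        res N (inf_le_right : W x ⊓ W y ≤ W y) (a y) := fun x y => by
      refine (hbij x _ inf_le_left).1 ?_
      have h1 := ha x
      have h2 := ha y
      dsimp only at h1 h2 ⊢
      rw [← fres_pairSec, ← fres_pairSec, h1, h2, fres_fres, fres_fres]
    obtain ⟨r, hr, -⟩ := TopCat.Sheaf.existsUnique_gluing' ⟨N.presheaf, N.isSheaf⟩ W U
      (fun x => homOfLE (hWU x)) (fun y hy => Opens.mem_iSup.2 ⟨⟨y, hy⟩, hxW ⟨y, hy⟩⟩) a hc
    refine ⟨r, TopCat.Presheaf.section_ext X.sheaf _ _ _ fun y hy => ?_⟩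
    have h1 : fres (hWU ⟨y, hy⟩) (pairSec ι t r) = fres (hWU ⟨y, hy⟩) z := by
      rw [fres_pairSec, ← ha ⟨y, hy⟩]
      exact congrArg (pairSec ι t) (hr ⟨y, hy⟩)
    have h2 := congrArg (X.presheaf.germ (W ⟨y, hy⟩) y (hxW ⟨y, hy⟩)) h1
    simp only [fres, TopCat.Presheaf.germ_res_apply] at h2
    exact h2

/-- The pairing takes values vanishing where the section does not generate. -/
theorem notMem_basicOpen_pairSec (hN' : PicF.IsInvertible N') {U : X.Opens} (a : Γ(N, U)) {x : X} (hx : x ∈ U)
    (ht : x ∉ CohB1.genLocus N' t) : x ∉ X.basicOpen (pairSec ι t a) := by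
  intro hxb
  obtain ⟨W, hxW, hWU, e', he'⟩ := Mero90.exists_affine_frame hN' x U hx
  obtain ⟨d, hd⟩ := exists_coord t he'
  have h1 : fres hWU (pairSec ι t a) = d * (show Γ(X, W.1) from ι.hom.app W.1 (tm N N' (res N hWU a) e')) := by
    rw [fres_pairSec]
    unfold pairSec
    rw [← hd, tm_smul_right, Scheme.Modules.Hom.app_smul]
    rfl
  have h2 : x ∈ X.basicOpen (fres hWU (pairSec ι t a)) := by
    rw [fres, Scheme.basicOpen_res]
    exact ⟨hxW, hxb⟩
  rw [h1, X.basicOpen_mul] at h2
  exact ht ((genLocus_inf_eq_basicOpen t he' hd).ge h2.1).1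

end Pair

/-! ### Global functions on a connected scheme proper over a field -/

section Global

variable {k : Type u} [Field k] (f : X ⟶ Spec (CommRingCat.of k))

theorem isIntegralElem_constMap [UniversallyClosed f] (c : Γ(X, ⊤)) : (Crv77.constMap f).IsIntegralElem c :=
  RingHom.IsIntegral.trans (Scheme.ΓSpecIso (CommRingCat.of k)).inv.hom f.appTop.hom
    (RingHom.isIntegral_of_surjective _
      (ConcreteCategory.bijective_of_isIso (Scheme.ΓSpecIso (CommRingCat.of k)).inv).2)
    (isIntegral_appTop_of_universallyClosed f) c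

/-- A global function is a unit or nilpotent. -/
theorem basicOpen_eq_bot_or_top [UniversallyClosed f] [ConnectedSpace X] (c : Γ(X, ⊤)) :
    X.basicOpen c = ⊥ ∨ X.basicOpen c = ⊤ := by
  letI : Algebra k Γ(X, ⊤) := (Crv77.constMap f).toAlgebra
  have hci : IsIntegral k c := isIntegralElem_constMap f c
  obtain ⟨P, hP, hPc⟩ := hci
  obtain ⟨Q, hQ, hQ'⟩ := Polynomial.exists_eq_pow_rootMultiplicity_mul_and_not_dvd P hP.ne_zero 0
  rw [map_zero, sub_zero] at hQ hQ'
  rw [Polynomial.X_dvd_iff] at hQ'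
  set m := P.rootMultiplicity 0
  let z : Γ(X, ⊤) := -(algebraMap k Γ(X, ⊤) (Q.coeff 0)⁻¹) * Polynomial.aeval c Q.divX
  have h1 : c ^ m * (c * z) = c ^ m := by
    have h2 : Polynomial.aeval c P = 0 := hPc
    rw [hQ, map_mul, map_pow, Polynomial.aeval_X, ← Polynomial.divX_mul_X_add Q, map_add, map_mul,
      Polynomial.aeval_X, Polynomial.aeval_C] at h2
    have h3 : algebraMap k Γ(X, ⊤) (Q.coeff 0)⁻¹ * algebraMap k Γ(X, ⊤) (Q.coeff 0) = 1 := by
      rw [← map_mul, inv_mul_cancel₀ hQ', map_one]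
    simp only [z]
    linear_combination (-(algebraMap k Γ(X, ⊤) (Q.coeff 0)⁻¹)) * h2 + c ^ m * h3
  have h2 : ∀ j, c ^ m * (c * z) ^ j = c ^ m := fun j => by
    induction j with
    | zero => rw [pow_zero, mul_one]
    | succ j ih => rw [pow_succ, ← mul_assoc, ih, h1]
  have he : IsIdempotentElem ((c * z) ^ m) := by
    show (c * z) ^ m * (c * z) ^ m = (c * z) ^ m
    linear_combination z ^ m * h2 m
  rcases Crv77.eq_zero_or_one_of_isIdempotentElem he with h | h
  · refine Or.inl ?_
    have h3 : c ^ m = 0 := by rw [← h2 m, h, mul_zero]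
    rcases Nat.eq_zero_or_pos m with hm | hm
    · rw [hm, pow_zero] at h3
      rw [← mul_one c, h3, mul_zero, Scheme.basicOpen_zero]
    · rw [← X.basicOpen_pow c hm, h3, Scheme.basicOpen_zero]
  · rcases Nat.eq_zero_or_pos m with hm | hm
    · rw [hm, pow_zero, one_mul] at h1
      exact Or.inr (X.basicOpen_of_isUnit (IsUnit.of_mul_eq_one z h1))
    · exact Or.inr (X.basicOpen_of_isUnit (isUnit_of_mul_isUnit_left (y := z)
        ((isUnit_pow_iff hm.ne').1 (h ▸ isUnit_one))))

end Global

section Main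

variable (k : Type u) [Field k] [X.Over (Spec (CommRingCat.of k))] [IsProper (X ↘ Spec (CommRingCat.of k))]

theorem subsingleton_HE_one_top (M : X.Modules) (h : Subsingleton (Coh.HH X M 1)) :
    Subsingleton (Coh69.HE (Coh.toAb M) 1 (⊤ : X.Opens)) :=
  (Coh69.hTerminalEquiv (isTerminalTop (α := X.Opens)) (Coh.toAb M) 1).toEquiv.symm.subsingleton

theorem depth_lt_two_of_krullDimLE_zero {R : Type u} [CommRing R] [IsLocalRing R] [IsNoetherianRing R]
    (h : ringKrullDim R ≤ 0) : ¬ 2 ≤ LocCoh.depth R R := by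
  intro h2
  have h3 := EGA4Alg4.depth_le_supportDim (A := R) (M := R)
  rw [Module.supportDim_self_eq_ringKrullDim] at h3
  have h4 : ((2 : ℕ∞) : WithBot ℕ∞) ≤ 0 := ((WithBot.coe_le_coe.2 h2).trans h3).trans h
  exact absurd h4 (by norm_num)

set_option maxHeartbeats 800000 in
include k in
/-- Where a section of an ample module generates everywhere the scheme is zero dimensional. -/
theorem genLocus_ne_top [ConnectedSpace X] {L : X.Modules} (hL : CohB1.IsAmple L)
    (s : Coh.structureModule X ⟶ L)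
    (hdepth : ∀ x : X, IsClosed ({x} : Set X) → 2 ≤ LocCoh.depth (X.presheaf.stalk x) (X.presheaf.stalk x)) :
    CohB1.genLocus L s ≠ ⊤ := by
  intro htop
  let f := X ↘ Spec (CommRingCat.of k)
  haveI : CompactSpace X := hL.2.1
  haveI : IsLocallyNoetherian X := LocallyOfFiniteType.isLocallyNoetherian f
  obtain ⟨x⟩ : Nonempty X := inferInstance
  obtain ⟨n, t, hxt, ht⟩ := hL.2.2 x
  have hfr : IsFrame (CohB1.tensorPow L (n + 1)) ⊤ (val _ (SecTwist.powHom s (n + 1)) ⊤) := by
    rw [isFrame_iff_le_genLocus, genLocus_powHom hL.1 s (n + 1) n.succ_pos, htop]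
  obtain ⟨g, hg⟩ := exists_coord t hfr
  have hb := genLocus_inf_eq_basicOpen t hfr hg
  rw [inf_top_eq] at hb
  haveI : IsAffine X := by
    rcases basicOpen_eq_bot_or_top f g with h | h
    · exact absurd (show x ∈ (⊥ : X.Opens) from h ▸ hb ▸ hxt) (fun h' => h')
    · rw [hb, h] at ht
      haveI : IsAffine (↑(⊤ : X.Opens) : Scheme.{u}) := ht
      exact IsAffine.of_isIso X.topIso.inv
  haveI : IsFinite f := IsFinite.iff_isProper_and_isAffineHom.2 ⟨inferInstance, inferInstance⟩
  have hfin : (Crv77.constMap f).Finite := RingHom.Finite.comp f.finite_appTop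
    (RingHom.Finite.of_surjective _ (ConcreteCategory.bijective_of_isIso (Scheme.ΓSpecIso (CommRingCat.of k)).inv).2)
  letI : Algebra k Γ(X, ⊤) := (Crv77.constMap f).toAlgebra
  haveI : Module.Finite k Γ(X, ⊤) := hfin
  haveI : IsArtinianRing Γ(X, ⊤) := IsArtinianRing.of_finite k _
  obtain ⟨y, -, hy⟩ := (isClosed_univ (X := X)).exists_closed_singleton Set.univ_nonempty
  let hA := isAffineOpen_top X
  letI := TopCat.Presheaf.algebra_section_stalk X.presheaf (U := ⊤) ⟨y, trivial⟩
  haveI := hA.isLocalization_stalk ⟨y, trivial⟩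
  refine depth_lt_two_of_krullDimLE_zero ?_ (hdepth y hy)
  rw [IsLocalization.AtPrime.ringKrullDim_eq_height (hA.primeIdealOf ⟨y, trivial⟩).asIdeal (X.presheaf.stalk y)]
  exact Ideal.height_le_ringKrullDim_of_isPrime.trans (Ring.krullDimLE_iff.1 inferInstance)

set_option maxHeartbeats 800000 in
include k in
/-- The complement of the locus where a section of an ample module generates is connected. -/
theorem isConnected_compl_genLocus [ConnectedSpace X] {L : X.Modules} (hL : CohB1.IsAmple L)
    (s : Coh.structureModule X ⟶ L)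
    (hdepth : ∀ x : X, IsClosed ({x} : Set X) → 2 ≤ LocCoh.depth (X.presheaf.stalk x) (X.presheaf.stalk x)) :
    IsConnected ((CohB1.genLocus L s : Set X)ᶜ) := by
  let f := X ↘ Spec (CommRingCat.of k)
  haveI : CompactSpace X := hL.2.1
  haveI : IsLocallyNoetherian X := LocallyOfFiniteType.isLocallyNoetherian f
  obtain ⟨M, -, ⟨eML⟩⟩ := An92.InvMod.exists_inverse hL.1
  have hne := genLocus_ne_top k hL s hdepth
  refine ⟨?_, ?_⟩
  · rw [Set.nonempty_compl]
    exact fun h => hne (Opens.ext h)
  refine (isPreconnected_iff_subset_of_fully_disjoint_closed (CohB1.genLocus L s).2.isClosed_compl).2 ?_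
  intro A B hA hB hcov hdisj
  by_contra hcon
  push Not at hcon
  obtain ⟨⟨b, hb, hbA⟩, ⟨a, ha, haB⟩⟩ := And.imp Set.not_subset.1 Set.not_subset.1 hcon
  have haA : a ∈ A := (hcov ha).resolve_right haB
  have hbB : b ∈ B := (hcov hb).resolve_left hbA
  obtain ⟨m₀, hm₀⟩ := S7680.result k X L hL M ⟨EGA73.tensComm L M ≪≫ eML⟩ (Coh.structureModule X) Div89.isCoh_structureModule
    fun z hz => (EGA4Alg4.depth_eq_of_equiv (QC70.unitStalkEquiv z)) ▸ hdepth z hz
  let m := m₀ + 1
  let N := CohB1.tensorPow M m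
  let N' := CohB1.tensorPow L m
  have hMinv : PicF.IsInvertible M := Inv57.isInvertible_of_tensorMod_iso eML
  have hN : PicF.IsInvertible N := EGA73.isInvertible_tensorPow hMinv m
  have hN' : PicF.IsInvertible N' := EGA73.isInvertible_tensorPow hL.1 m
  obtain ⟨ι⟩ := CD47.isInverseOf_tensorPow (M := M) (L := L) ⟨eML⟩ m
  let t : Coh.structureModule X ⟶ N' := SecTwist.powHom s m
  have htg : CohB1.genLocus N' t = CohB1.genLocus L s := genLocus_powHom hL.1 s m m₀.succ_pos
  have h1 : Subsingleton (Coh.HH X N 1) :=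
    ValVan29.subsingleton_hh_of_iso (EGA73.tensUnitLeft N) 1 (hm₀ m m₀.le_succ)
  let U : X.Opens := ⟨(B ∩ (CohB1.genLocus L s : Set X)ᶜ)ᶜ,
    (hB.inter (CohB1.genLocus L s).2.isClosed_compl).isOpen_compl⟩
  let V : X.Opens := ⟨(A ∩ (CohB1.genLocus L s : Set X)ᶜ)ᶜ,
    (hA.inter (CohB1.genLocus L s).2.isClosed_compl).isOpen_compl⟩
  have hUV : U ⊔ V = ⊤ := top_le_iff.1 fun z _ => by
    by_contra h
    rw [Opens.mem_sup, not_or] at h
    obtain ⟨hzB, hzW⟩ : z ∈ B ∧ z ∈ (CohB1.genLocus L s : Set X)ᶜ := not_not.1 h.1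
    obtain ⟨hzA, -⟩ : z ∈ A ∧ z ∈ (CohB1.genLocus L s : Set X)ᶜ := not_not.1 h.2
    exact Set.disjoint_left.1 hdisj hzA hzB
  have hI : U ⊓ V ≤ CohB1.genLocus N' t := by
    rw [htg]
    rintro z ⟨hzU, hzV⟩
    by_contra hz
    rcases hcov hz with h | h
    · exact hzV ⟨h, hz⟩
    · exact hzU ⟨h, hz⟩
  obtain ⟨c, hc⟩ := (pairSec_bijective ι t hN hI).2 1
  have hmv : CrvFF30.mvDelta (Coh.toAb N) U V c = 0 := by
    haveI : Subsingleton (Coh69.HE (Coh.toAb N) 1 (U ⊔ V)) := by
      rw [hUV]; exact subsingleton_HE_one_top N h1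
    exact Subsingleton.elim _ _
  obtain ⟨p, q, hpq⟩ := (CrvFF30.mvDelta_eq_zero_iff (Coh.toAb N) U V c).1 hmv
  let p' : Γ(N, U) := p
  let q' : Γ(N, V) := q
  have hpq' : res N inf_le_left p' - res N inf_le_right q' = c := hpq
  let W : Bool → X.Opens := fun i => cond i U V
  let fs : ∀ i : Bool, Γ(X, W i) := fun i => match i with
    | true => (1 - pairSec ι t p' : Γ(X, U))
    | false => (-pairSec ι t q' : Γ(X, V))
  have hcompat : fres (inf_le_left : U ⊓ V ≤ U) (1 - pairSec ι t p') =
      fres (inf_le_right : U ⊓ V ≤ V) (-pairSec ι t q') := by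
    simp only [fres, map_sub, map_one, map_neg]
    have e1 := fres_pairSec ι t (inf_le_left : U ⊓ V ≤ U) p'
    have e2 := fres_pairSec ι t (inf_le_right : U ⊓ V ≤ V) q'
    simp only [fres] at e1 e2
    rw [e1, e2]
    have h := hc
    dsimp only at h
    rw [← hpq', pairSec_sub] at h
    linear_combination -h
  obtain ⟨g, hg, -⟩ := X.sheaf.existsUnique_gluing' W ⊤ (fun i => homOfLE le_top)
    (fun z _ => by
      rcases Opens.mem_sup.1 (hUV.ge (Set.mem_univ z)) with h | h
      · exact Opens.mem_iSup.2 ⟨true, h⟩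
      · exact Opens.mem_iSup.2 ⟨false, h⟩) fs (fun i j => by
      cases i <;> cases j
      · rfl
      · show fres (inf_le_left : V ⊓ U ≤ V) (-pairSec ι t q') = fres (inf_le_right : V ⊓ U ≤ U) (1 - pairSec ι t p')
        have h := congrArg (fres (le_inf inf_le_right inf_le_left : V ⊓ U ≤ U ⊓ V)) hcompat
        rw [fres_fres, fres_fres] at h
        exact h.symm
      · exact hcompat
      · rfl)
  have hgU : fres (le_top : U ≤ ⊤) g = 1 - pairSec ι t p' := hg true
  have hgV : fres (le_top : V ≤ ⊤) g = -pairSec ι t q' := hg false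
  have hbV : b ∈ V := fun h => hbA h.1
  have haU : a ∈ U := fun h => haB h.1
  rcases basicOpen_eq_bot_or_top f g with hg' | hg'
  · have h := notMem_basicOpen_pairSec ι t hN' p' haU (htg.symm ▸ ha)
    have h2 : a ∈ X.basicOpen (1 - pairSec ι t p') := by
      have e0 := (X.evaluation_eq_zero_iff_notMem_basicOpen (U := U) a haU _).2 h
      by_contra h3
      have e1 := (X.evaluation_eq_zero_iff_notMem_basicOpen (U := U) a haU _).2 h3
      rw [map_sub, map_one, e0, sub_zero] at e1
      exact one_ne_zero e1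
    rw [← hgU, fres, Scheme.basicOpen_res] at h2
    rw [hg'] at h2
    exact h2.2
  · have h2 : b ∈ X.basicOpen (fres (le_top : V ≤ ⊤) g) := by
      rw [fres, Scheme.basicOpen_res, hg']
      exact ⟨hbV, trivial⟩
    rw [hgV] at h2
    have e0 := (X.evaluation_eq_zero_iff_notMem_basicOpen (U := V) b hbV _).2
      (notMem_basicOpen_pairSec ι t hN' q' hbV (htg.symm ▸ hb))
    exact (X.evaluation_eq_zero_iff_notMem_basicOpen (U := V) b hbV _).1 (by rw [map_neg, e0, neg_zero]) h2

include k in
theorem connectedSpace_zeroScheme [ConnectedSpace X] {L : X.Modules} (hL : CohB1.IsAmple L)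
    (s : Coh.structureModule X ⟶ L)
    (hdepth : ∀ x : X, IsClosed ({x} : Set X) → 2 ≤ LocCoh.depth (X.presheaf.stalk x) (X.presheaf.stalk x)) :
    ConnectedSpace ↥(PicF2.zeroScheme L s).subscheme := by
  have hsup : ((PicF2.zeroScheme L s).support : Set X) = (CohB1.genLocus L s : Set X)ᶜ :=
    Set.ext fun z => RB70.RegSect.mem_support_zeroScheme_iff hL.1 s z
  have hι := (PicF2.zeroScheme L s).subschemeι.isEmbedding
  have hc := isConnected_compl_genLocus k hL s hdepth
  rw [← hsup, ← Scheme.IdealSheafData.range_subschemeι, ← Set.image_univ] at hc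
  exact connectedSpace_iff_univ.2 ⟨(Set.image_nonempty.1 hc.1), hι.isInducing.isPreconnected_image.1 hc.2⟩

end Main

end Groth.Agent.Conn75

end
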